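/-
Elements of order `5` in `PSL_2(11)` and the automorphisms of `PSL_2(11)`.
-/
import Mathlib
import Cfsg.Agent.ClassicalGeometry.AutPSL.Main
import Cfsg.Agent.Lib.FieldAutCard
import Cfsg.Agent.ClassicalGeometry.PSL2Basic
import Cfsg.Agent.FastGrp
import Cfsg.Agent.Prune
set_option linter.all false
prune_inst 0x7fffbdfffffbffffdfff7e7fafdffffdffbffffffffffdcbffe969ffafdf6f7fcdc5ffed8bec7aff9ffee29411f8fb53fffffefffb6ffc7ffffdfff4dffbffdffdf7bd0851d68c340fbc0fff63f07f8e7f3fffffffffffffffffffffffffffffffffffffffff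
open scoped Cfsg.Agent.FastGrp

set_option autoImplicit false

namespace Cfsg.Agent.H579.ElevenMat

open Matrix
open Cfsg.Agent.ClassicalGeometry.AutPSL.Root
open Cfsg.Agent.ClassicalGeometry.AutPSL.Auto
open Cfsg.Agent.ClassicalGeometry.AutPSL.Main

instance fact11 : Fact (Nat.Prime 11) := ⟨by norm_num⟩

/-- `SL_2(11)`. -/
abbrev S := Matrix.SpecialLinearGroup (Fin 2) (ZMod 11)

/-- `PSL_2(11)`. -/
abbrev PS := Matrix.ProjectiveSpecialLinearGroup (Fin 2) (ZMod 11)

/-- Central elements have square `1`. -/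
theorem sq_of_center {z : S} (hz : z ∈ Subgroup.center S) : z ^ 2 = 1 := by
  obtain ⟨r, hr, hrz⟩ := Matrix.SpecialLinearGroup.mem_center_iff.1 hz
  rw [Fintype.card_fin] at hr
  apply Subtype.ext
  rw [Matrix.SpecialLinearGroup.coe_pow, ← hrz, ← map_pow, hr, map_one,
    Matrix.SpecialLinearGroup.coe_one]

/-- Lift of an element of order `5`. -/
theorem exists_lift {x : PS} (hx : x ^ 5 = 1) : ∃ u : S, pr u = x ∧ u ^ 5 = 1 := by
  obtain ⟨y, rfl⟩ := pr_surjective x
  rw [← map_pow, pr_eq_one_iff] at hx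
  have h1 := sq_of_center hx
  refine ⟨y ^ 6, ?_, ?_⟩
  · have h2 : pr (y ^ 5) = 1 := (pr_eq_one_iff _).2 hx
    rw [pow_succ, map_mul, h2, one_mul]
  · rw [← pow_mul]
    have : (y ^ 5) ^ 2 = 1 := h1
    calc y ^ (6 * 5) = ((y ^ 5) ^ 2) ^ 3 := by rw [← pow_mul, ← pow_mul]
      _ = 1 := by rw [this, one_pow]

/-- Elements of order `5` are determined by their image. -/
theorem eq_of_pr {u v : S} (hu : u ^ 5 = 1) (hv : v ^ 5 = 1) (h : pr u = pr v) : u = v := by
  have h1 : u⁻¹ * v ∈ Subgroup.center S := by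
    rw [← pr_eq_one_iff, map_mul, map_inv, h, inv_mul_cancel]
  have h2 := sq_of_center h1
  have h3 : v = u * (u⁻¹ * v) := by group
  have h4 : (u⁻¹ * v) ^ 5 = 1 := by
    have hc : Commute u (u⁻¹ * v) := (Subgroup.mem_center_iff.1 h1 u)
    have h5 := hc.mul_pow 5
    rw [← h3, hu, hv, one_mul] at h5
    exact h5.symm
  have h5 : u⁻¹ * v = 1 := by
    calc u⁻¹ * v = (u⁻¹ * v) ^ 5 * ((u⁻¹ * v) ^ 2)⁻¹ * ((u⁻¹ * v) ^ 2)⁻¹ := by group
      _ = 1 := by rw [h4, h2]; group
  rw [h3, h5, mul_one]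

/-- The commutant of a non-scalar matrix. -/
theorem commutant {A B : Matrix (Fin 2) (Fin 2) (ZMod 11)} (hA : ∀ c : ZMod 11, A ≠ c • 1)
    (h : B * A = A * B) : ∃ a b : ZMod 11, B = a • (1 : Matrix (Fin 2) (Fin 2) (ZMod 11)) + b • A := by
  have h00 := congrFun (congrFun h 0) 0
  have h01 := congrFun (congrFun h 0) 1
  have h10 := congrFun (congrFun h 1) 0
  simp only [Matrix.mul_apply, Fin.sum_univ_two] at h00 h01 h10
  by_cases hq : A 0 1 = 0
  · by_cases hr : A 1 0 = 0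
    · have hne : A 0 0 - A 1 1 ≠ 0 := by
        intro h1
        apply hA (A 0 0)
        ext i j
        fin_cases i <;> fin_cases j
        · simp
        · simp [hq]
        · simp [hr]
        · simp
          exact (sub_eq_zero.1 h1).symm
      have h1 : B 0 1 = 0 := by
        rw [hq] at h01
        have : (A 0 0 - A 1 1) * B 0 1 = 0 := by linear_combination -h01
        exact (mul_eq_zero.1 this).resolve_left hne
      have h2 : B 1 0 = 0 := by
        rw [hr] at h10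
        have : (A 0 0 - A 1 1) * B 1 0 = 0 := by linear_combination h10
        exact (mul_eq_zero.1 this).resolve_left hne
      refine ⟨B 0 0 - (B 0 0 - B 1 1) / (A 0 0 - A 1 1) * A 0 0,
        (B 0 0 - B 1 1) / (A 0 0 - A 1 1), ?_⟩
      ext i j
      fin_cases i <;> fin_cases j
      · simp
      · simp [hq, h1]
      · simp [hr, h2]
      · simp
        field_simp
        ring
    · refine ⟨B 0 0 - B 1 0 / A 1 0 * A 0 0, B 1 0 / A 1 0, ?_⟩
      ext i j
      fin_cases i <;> fin_cases j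
      · simp
      · simp
        field_simp
        linear_combination h00
      · simp
        field_simp
      · simp
        field_simp
        linear_combination h10
  · refine ⟨B 0 0 - B 0 1 / A 0 1 * A 0 0, B 0 1 / A 0 1, ?_⟩
    ext i j
    fin_cases i <;> fin_cases j
    · simp
    · simp only [_root_.Fin.zero_eta, _root_.Fin.isValue, _root_.Fin.mk_one, _root_.Matrix.add_apply, _root_.Matrix.smul_apply, _root_.Nat.reduceAdd, _root_.ne_eq, _root_.zero_ne_one, _root_.not_false_eq_true, _root_.Matrix.one_apply_ne, _root_.smul_eq_mul, _root_.MulZeroClass.mul_zero, _root_.zero_add]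
      field_simp
    · simp
      field_simp
      linear_combination -h00
    · simp
      field_simp
      linear_combination -h01

/-- Cayley-Hamilton. -/
theorem sq_eq (u : S) : (u : Matrix (Fin 2) (Fin 2) (ZMod 11)) * u =
    (u 0 0 + u 1 1) • (u : Matrix (Fin 2) (Fin 2) (ZMod 11)) - 1 := by
  have hdet : u 0 0 * u 1 1 - u 0 1 * u 1 0 = 1 := by
    rw [← Matrix.det_fin_two]
    exact u.2
  ext i j
  fin_cases i <;> fin_cases j <;> simp only [Matrix.mul_apply, Fin.sum_univ_two, _root_.Fin.zero_eta, _root_.Fin.isValue, _root_.Matrix.mul_apply, _root_.Fin.sum_univ_two, _root_.Matrix.sub_apply, _root_.Matrix.smul_apply, _root_.smul_eq_mul, _root_.Matrix.one_apply_eq, _root_.Fin.mk_one, _root_.Nat.reduceAdd, _root_.ne_eq, _root_.zero_ne_one, _root_.not_false_eq_true, _root_.Matrix.one_apply_ne, _root_.sub_zero, _root_.one_ne_zero]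
  · linear_combination -hdet
  · ring
  · ring
  · linear_combination -hdet

/-- A scalar matrix of order dividing `5` in `SL_2` is trivial. -/
theorem eq_one_of_scalar {u : S} (hu : u ^ 5 = 1) {c : ZMod 11}
    (h : (u : Matrix (Fin 2) (Fin 2) (ZMod 11)) = c • 1) : u = 1 := by
  have h1 : u ∈ Subgroup.center S := by
    rw [Subgroup.mem_center_iff]
    intro g
    apply Subtype.ext
    change (g : Matrix (Fin 2) (Fin 2) (ZMod 11)) * u = u * g
    rw [h]
    simp
  have h2 := sq_of_center h1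
  calc u = u ^ 5 * (u ^ 2)⁻¹ * (u ^ 2)⁻¹ := by group
    _ = 1 := by rw [hu, h2]; group

theorem arith_trace : ∀ t : ZMod 11, t ^ 4 - 3 * t ^ 2 + 1 = 0 → t ^ 3 - 2 * t + 1 = 0 →
    t = 3 ∨ t = 7 := by decide

/-- The trace of an element of order `5`. -/
theorem trace_eq {u : S} (hu : u ^ 5 = 1) (hu1 : u ≠ 1) :
    u 0 0 + u 1 1 = 3 ∨ u 0 0 + u 1 1 = 7 := by
  set t := u 0 0 + u 1 1 with ht
  obtain ⟨X, hX⟩ : ∃ X : Matrix (Fin 2) (Fin 2) (ZMod 11), X = u.1 := ⟨_, rfl⟩
  have h2 : X * X = t • X - 1 := by rw [hX]; exact sq_eq u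
  have h5 : X * X * X * X * X = 1 := by
    have := congrArg Subtype.val hu
    have h : X ^ 5 = 1 := by rw [hX]; exact this
    rw [← h]
    simp only [pow_succ, pow_zero, one_mul]
  have h3 : X * X * X = (t ^ 2 - 1) • X - t • (1 : Matrix (Fin 2) (Fin 2) (ZMod 11)) := by
    rw [h2, sub_mul, Matrix.smul_mul, h2, one_mul, smul_sub, smul_smul]
    rw [sub_smul, one_smul, pow_two]
    abel
  have h4 : X * X * X * X = (t ^ 3 - 2 * t) • X -
      (t ^ 2 - 1) • (1 : Matrix (Fin 2) (Fin 2) (ZMod 11)) := by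
    rw [h3, sub_mul, Matrix.smul_mul, h2, Matrix.smul_mul, one_mul, smul_sub, smul_smul]
    have : (t ^ 2 - 1) * t = (t ^ 3 - 2 * t) + t := by ring
    rw [this, add_smul]
    abel
  have h6 : X * X * X * X * X = (t ^ 4 - 3 * t ^ 2 + 1) • X -
      (t ^ 3 - 2 * t) • (1 : Matrix (Fin 2) (Fin 2) (ZMod 11)) := by
    rw [h4, sub_mul, Matrix.smul_mul, h2, Matrix.smul_mul, one_mul, smul_sub, smul_smul]
    have : (t ^ 3 - 2 * t) * t = (t ^ 4 - 3 * t ^ 2 + 1) + (t ^ 2 - 1) := by ring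
    rw [this, add_smul]
    abel
  rw [h6] at h5
  by_cases h7 : t ^ 4 - 3 * t ^ 2 + 1 = 0
  · rw [h7, zero_smul, zero_sub] at h5
    have h8 := congrFun (congrFun h5 0) 0
    simp at h8
    exact arith_trace t h7 (by linear_combination -h8)
  · exfalso
    apply hu1
    apply eq_one_of_scalar hu (c := (t ^ 4 - 3 * t ^ 2 + 1)⁻¹ * (t ^ 3 - 2 * t + 1))
    have h8 : (t ^ 4 - 3 * t ^ 2 + 1) • X = (t ^ 3 - 2 * t + 1) •
        (1 : Matrix (Fin 2) (Fin 2) (ZMod 11)) := by
      rw [sub_eq_iff_eq_add] at h5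
      rw [h5, add_smul, one_smul, add_comm]
    rw [← smul_smul, ← h8, smul_smul, inv_mul_cancel₀ h7, one_smul]
    exact hX.symm

theorem not_scalar {u : S} (hu : u ^ 5 = 1) (hu1 : u ≠ 1) (c : ZMod 11) :
    (u : Matrix (Fin 2) (Fin 2) (ZMod 11)) ≠ c • 1 := fun h => hu1 (eq_one_of_scalar hu h)

theorem arith3 : ∀ a b : ZMod 11, a ^ 2 + 3 * (a * b) + b ^ 2 = 1 →
    ∃ s : ZMod 11, ∃ i : Fin 5, a = s * (![1, 0, -1, -3, 3] i) ∧ b = s * (![0, 1, 3, 8, -1] i) := by
  decide +kernel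

theorem arith7 : ∀ a b : ZMod 11, a ^ 2 + 7 * (a * b) + b ^ 2 = 1 →
    ∃ s : ZMod 11, ∃ i : Fin 5, a = s * (![1, 0, -1, 4, 7] i) ∧ b = s * (![0, 1, 7, 4, -1] i) := by
  decide +kernel

/-- The powers of an element with trace `t`. -/
theorem powers {u : S} {t : ZMod 11} (ht : u 0 0 + u 1 1 = t) :
    (u : Matrix (Fin 2) (Fin 2) (ZMod 11)) ^ 2 = t • (u : Matrix (Fin 2) (Fin 2) (ZMod 11)) - 1 ∧
    (u : Matrix (Fin 2) (Fin 2) (ZMod 11)) ^ 3 = (t ^ 2 - 1) • (u : Matrix (Fin 2) (Fin 2) (ZMod 11))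
      - t • 1 ∧
    (u : Matrix (Fin 2) (Fin 2) (ZMod 11)) ^ 4 = (t ^ 3 - 2 * t) •
      (u : Matrix (Fin 2) (Fin 2) (ZMod 11)) - (t ^ 2 - 1) • 1 := by
  obtain ⟨X, hX⟩ : ∃ X : Matrix (Fin 2) (Fin 2) (ZMod 11), X = u.1 := ⟨_, rfl⟩
  have h2 : X * X = t • X - 1 := by
    rw [← ht, hX]
    exact sq_eq u
  rw [← hX]
  have h3 : X * X * X = (t ^ 2 - 1) • X - t • (1 : Matrix (Fin 2) (Fin 2) (ZMod 11)) := by
    rw [h2, sub_mul, Matrix.smul_mul, h2, one_mul, smul_sub, smul_smul]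
    rw [sub_smul, one_smul, pow_two]
    abel
  refine ⟨by rw [pow_two, h2], by rw [pow_succ, pow_two, h3], ?_⟩
  rw [pow_succ, pow_succ, pow_two, h3, sub_mul, Matrix.smul_mul, h2, Matrix.smul_mul, one_mul,
    smul_sub, smul_smul]
  have : (t ^ 2 - 1) * t = (t ^ 3 - 2 * t) + t := by ring
  rw [this, add_smul]
  abel

theorem det_comb (u : S) (a b : ZMod 11) :
    (a • (1 : Matrix (Fin 2) (Fin 2) (ZMod 11)) + b • (u : Matrix (Fin 2) (Fin 2) (ZMod 11))).det
      = a ^ 2 + (u 0 0 + u 1 1) * (a * b) + b ^ 2 := by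
  have hdet : u 0 0 * u 1 1 - u 0 1 * u 1 0 = 1 := by
    rw [← Matrix.det_fin_two]
    exact u.2
  rw [Matrix.det_fin_two]
  simp only [_root_.Fin.isValue, _root_.Matrix.add_apply, _root_.Matrix.smul_apply, _root_.Matrix.one_apply_eq, _root_.smul_eq_mul, _root_.mul_one, _root_.ne_eq, _root_.zero_ne_one, _root_.not_false_eq_true, _root_.Matrix.one_apply_ne, _root_.MulZeroClass.mul_zero, _root_.zero_add, _root_.one_ne_zero]
  linear_combination (b ^ 2) * hdet

/-- **Centralisers of elements of order `5`.** -/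
theorem mem_zpowers {x n : PS} (hx : x ^ 5 = 1) (hx1 : x ≠ 1) (h : n * x = x * n) :
    ∃ i : ℕ, n = x ^ i := by
  obtain ⟨u, rfl, hu⟩ := exists_lift hx
  obtain ⟨v, rfl⟩ := pr_surjective n
  have hu1 : u ≠ 1 := by
    rintro rfl
    exact hx1 (map_one _)
  have h1 : v * u * v⁻¹ = u := by
    apply eq_of_pr _ hu
    · rw [map_mul, map_mul, map_inv, h, mul_inv_cancel_right]
    · rw [conj_pow, hu, mul_one, mul_inv_cancel]
  have h2 : v * u = u * v := mul_inv_eq_iff_eq_mul.1 h1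
  have h3 : (v : Matrix (Fin 2) (Fin 2) (ZMod 11)) * u = u * v := congrArg Subtype.val h2
  obtain ⟨a, b, hab⟩ := commutant (not_scalar hu hu1) h3
  have h4 : a ^ 2 + (u 0 0 + u 1 1) * (a * b) + b ^ 2 = 1 := by
    rw [← det_comb, ← hab]
    exact v.2
  have key : ∃ s : ZMod 11, ∃ i : ℕ, (v : Matrix (Fin 2) (Fin 2) (ZMod 11)) =
      s • ((u ^ i : S) : Matrix (Fin 2) (Fin 2) (ZMod 11)) := by
    rcases trace_eq hu hu1 with ht | ht
    · rw [ht] at h4
      obtain ⟨s, i, h5, h6⟩ := arith3 a b h4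
      obtain ⟨p2, p3, p4⟩ := powers ht
      refine ⟨s, i, ?_⟩
      rw [Matrix.SpecialLinearGroup.coe_pow, hab, h5, h6]
      have e1 : (3 : ZMod 11) ^ 2 - 1 = 8 := by decide
      have e2 : (3 : ZMod 11) ^ 3 - 2 * 3 = -1 := by decide
      have e3 : (8 : ZMod 11) = -3 := by decide
      fin_cases i
      · simp
      · simp
      · change _ = s • (u : Matrix (Fin 2) (Fin 2) (ZMod 11)) ^ 2
        rw [p2, smul_sub, smul_smul]
        simp only [_root_.Nat.succ_eq_add_one, _root_.Nat.reduceAdd, _root_.Fin.reduceFinMk, _root_.Matrix.cons_val, _root_.mul_neg, _root_.mul_one, _root_.neg_smul]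
        abel
      · change _ = s • (u : Matrix (Fin 2) (Fin 2) (ZMod 11)) ^ 3
        rw [p3, smul_sub, smul_smul, smul_smul, e1]
        simp only [_root_.Nat.succ_eq_add_one, _root_.Nat.reduceAdd, _root_.Fin.reduceFinMk, _root_.Matrix.cons_val, _root_.mul_neg, _root_.neg_smul]
        abel
      · change _ = s • (u : Matrix (Fin 2) (Fin 2) (ZMod 11)) ^ 4
        rw [p4, smul_sub, smul_smul, smul_smul, e1, e2, e3]
        simp only [_root_.Nat.succ_eq_add_one, _root_.Nat.reduceAdd, _root_.Fin.reduceFinMk, _root_.Matrix.cons_val, _root_.mul_neg, _root_.mul_one, _root_.neg_smul, _root_.sub_neg_eq_add]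
        abel
    · rw [ht] at h4
      obtain ⟨s, i, h5, h6⟩ := arith7 a b h4
      obtain ⟨p2, p3, p4⟩ := powers ht
      refine ⟨s, i, ?_⟩
      rw [Matrix.SpecialLinearGroup.coe_pow, hab, h5, h6]
      have e1 : (7 : ZMod 11) ^ 2 - 1 = 4 := by decide
      have e2 : (7 : ZMod 11) ^ 3 - 2 * 7 = -1 := by decide
      have e3 : (7 : ZMod 11) = -4 := by decide
      fin_cases i
      · simp
      · simp
      · change _ = s • (u : Matrix (Fin 2) (Fin 2) (ZMod 11)) ^ 2
        rw [p2, smul_sub, smul_smul]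
        simp only [_root_.Nat.succ_eq_add_one, _root_.Nat.reduceAdd, _root_.Fin.reduceFinMk, _root_.Matrix.cons_val, _root_.mul_neg, _root_.mul_one, _root_.neg_smul]
        abel
      · change _ = s • (u : Matrix (Fin 2) (Fin 2) (ZMod 11)) ^ 3
        rw [p3, smul_sub, smul_smul, smul_smul, e1, e3]
        simp only [_root_.Nat.succ_eq_add_one, _root_.Nat.reduceAdd, _root_.Fin.reduceFinMk, _root_.Matrix.cons_val, _root_.mul_neg, _root_.neg_smul, _root_.sub_neg_eq_add]
        abel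
      · change _ = s • (u : Matrix (Fin 2) (Fin 2) (ZMod 11)) ^ 4
        rw [p4, smul_sub, smul_smul, smul_smul, e1, e2]
        simp only [e3, _root_.Nat.succ_eq_add_one, _root_.Nat.reduceAdd, _root_.Fin.reduceFinMk, _root_.Matrix.cons_val, _root_.mul_neg, _root_.neg_smul, _root_.mul_one]
        abel
  obtain ⟨s, i, hs⟩ := key
  exact ⟨i, by rw [← map_pow]; exact (pr_eq_of_smul hs).symm⟩

/-- The automorphisms of `PSL_2(11)`. -/
theorem exists_cj (α : MulAut PS) : ∃ A : GL (Fin 2) (ZMod 11), α = lift (cj A) := by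
  obtain ⟨A, σ, h⟩ := surj_two 11 α
  have h1 : Nat.card (ZMod 11 ≃+* ZMod 11) = 1 :=
    Cfsg.Agent.Lib.FieldAutCard.card_ringAut (p := 11) (f := 1) le_rfl (by rw [ZMod.card, pow_one])
  have h2 : Subsingleton (ZMod 11 ≃+* ZMod 11) := (Nat.card_eq_one_iff_unique.1 h1).1
  have h3 : σ = 1 := Subsingleton.elim _ _
  exact ⟨A, by rw [h, h3, map_one, mul_one]⟩

theorem trace_cj (A : GL (Fin 2) (ZMod 11)) (u : S) :
    (cj A u) 0 0 + (cj A u) 1 1 = u 0 0 + u 1 1 := by
  have h1 : ∀ w : S, w 0 0 + w 1 1 = (w : Matrix (Fin 2) (Fin 2) (ZMod 11)).trace := by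
    intro w
    rw [Matrix.trace_fin_two]
  rw [h1, h1, coe_cj, Matrix.trace_mul_comm, ← mul_assoc, ← Units.val_mul, inv_mul_cancel,
    Units.val_one, one_mul]

/-- No automorphism squares an element of order `5`. -/
theorem not_sq (α : MulAut PS) {x : PS} (hx : x ^ 5 = 1) (hx1 : x ≠ 1) : α x ≠ x ^ 2 := by
  intro h
  obtain ⟨A, rfl⟩ := exists_cj α
  obtain ⟨u, rfl, hu⟩ := exists_lift hx
  have hu1 : u ≠ 1 := by
    rintro rfl
    exact hx1 (map_one _)
  have h1 : cj A u = u ^ 2 := by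
    apply eq_of_pr
    · rw [← map_pow, hu, map_one]
    · rw [← pow_mul, mul_comm, pow_mul, hu, one_pow]
    · rw [← lift_pr, h, map_pow]
  have h2 := trace_cj A u
  rw [h1] at h2
  have h3 : ∀ w : S, (w : Matrix (Fin 2) (Fin 2) (ZMod 11)) =
      (u 0 0 + u 1 1) • (u : Matrix (Fin 2) (Fin 2) (ZMod 11)) - 1 →
      w 0 0 + w 1 1 = (u 0 0 + u 1 1) ^ 2 - 2 := by
    intro w hw
    have h6 := congrFun (congrFun hw 0) 0
    have h7 := congrFun (congrFun hw 1) 1
    simp at h6 h7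
    rw [h6, h7]
    ring
  have h5 : ((u ^ 2 : S) : Matrix (Fin 2) (Fin 2) (ZMod 11)) =
      (u 0 0 + u 1 1) • (u : Matrix (Fin 2) (Fin 2) (ZMod 11)) - 1 := by
    rw [← sq_eq u, Matrix.SpecialLinearGroup.coe_pow, pow_two]
  rw [h3 _ h5] at h2
  rcases trace_eq hu hu1 with ht | ht <;> rw [ht] at h2 <;> revert h2 <;> decide

/-- Elements of order `5` fixed by a nontrivial automorphism commute. -/
theorem commute_of_fixed {α : MulAut PS} (hα : α ≠ 1) {x y : PS} (hx : x ^ 5 = 1) (hy : y ^ 5 = 1)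
    (h1 : α x = x) (h2 : α y = y) : x * y = y * x := by
  obtain ⟨A, rfl⟩ := exists_cj α
  obtain ⟨u, rfl, hu⟩ := exists_lift hx
  obtain ⟨v, rfl, hv⟩ := exists_lift hy
  have hA : ∀ c : ZMod 11, (A : Matrix (Fin 2) (Fin 2) (ZMod 11)) ≠ c • 1 := by
    intro c hc
    apply hα
    have h3 : cj A = 1 := by
      apply cj_eq_one_of_scalar (r := c)
      rw [hc, scalar_apply, ← smul_one_eq_diagonal]
    rw [h3, map_one]
  have key : ∀ w : S, w ^ 5 = 1 → lift (cj A) (pr w) = pr w →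
      (w : Matrix (Fin 2) (Fin 2) (ZMod 11)) * A = A * w := by
    intro w hw h3
    have h4 : cj A w = w := by
      apply eq_of_pr _ hw
      · rw [← lift_pr, h3]
      · rw [← map_pow, hw, map_one]
    have h5 := congrArg Subtype.val h4
    rw [coe_cj] at h5
    have h6 : (A : Matrix (Fin 2) (Fin 2) (ZMod 11)) * w *
        ((A⁻¹ : GL (Fin 2) (ZMod 11)) : Matrix (Fin 2) (Fin 2) (ZMod 11)) * A = w * A :=
      congrArg (fun M => M * (A : Matrix (Fin 2) (Fin 2) (ZMod 11))) h5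
    rw [mul_assoc, ← Units.val_mul, inv_mul_cancel, Units.val_one, mul_one] at h6
    exact h6.symm
  obtain ⟨a, b, hab⟩ := commutant hA (key u hu h1)
  obtain ⟨c, d, hcd⟩ := commutant hA (key v hv h2)
  have h3 : u * v = v * u := by
    apply Subtype.ext
    change (u : Matrix (Fin 2) (Fin 2) (ZMod 11)) * v = v * u
    rw [hab, hcd]
    simp only [add_mul, mul_add, Matrix.smul_mul, Matrix.mul_smul, one_mul, mul_one]
    simp only [smul_smul]
    rw [mul_comm a c, mul_comm a d, mul_comm b c, mul_comm b d]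
    abel
  rw [← map_mul, h3, map_mul]

theorem card_PS : Nat.card PS = 660 := by
  have h := Cfsg.Agent.ClassicalGeometry.PSL2Basic.card_PSL2_odd (F := ZMod 11)
    (by rw [ZMod.card]; decide)
  rw [ZMod.card] at h
  replace h : Nat.card PS * 2 = 11 * (11 ^ 2 - 1) := h
  have h2 : 11 * (11 ^ 2 - 1) = 660 * 2 := by norm_num
  rw [h2] at h
  exact Nat.eq_of_mul_eq_mul_right (by norm_num) h

end Cfsg.Agent.H579.ElevenMat
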