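/-
Subgroups of `SL_n(F)` of index prime to the characteristic stabilise a subspace.
-/
import Mathlib
import Cfsg.Agent.LieClassical.SLGen
import Cfsg.Agent.ClassicalGeometry.AutPSL.Auto
import Cfsg.Agent.Prune
set_option linter.all false
prune_inst 0x7f00000000000000000000000000000000000000000000000000000000000000000000000000000000000000000000000000000000000000000000000000000000000000000000000000000000000000003fffffffffffffffffffffffffffaeffbdffffffff
open scoped Cfsg.Agent.FastGrp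

set_option autoImplicit false

namespace Cfsg.Agent.H579.SLStab

open Matrix
open Cfsg.Agent.ClassicalGeometry.AutPSL.Root
open Cfsg.Agent.ClassicalGeometry.AutPSL.Auto

variable {n : ℕ} {F : Type*} [Field F]

theorem tr_smul (a φ : Fin n → F) (h : φ ⬝ᵥ a = 0) (x : Fin n → F) :
    (tr a φ h) • x = x + (φ ⬝ᵥ x) • a := tr_mulVec a φ h x

/-- A vector outside a subspace is detected by a linear form. -/
theorem exists_form {W : Submodule F (Fin n → F)} {u : Fin n → F} (hu : u ∉ W) :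
    ∃ φ : Fin n → F, (∀ w ∈ W, φ ⬝ᵥ w = 0) ∧ φ ⬝ᵥ u ≠ 0 := by
  obtain ⟨f, hf1, hf2⟩ := Submodule.exists_le_ker_of_notMem hu
  have hf : ∀ x : Fin n → F, (fun i => f (Pi.single i 1)) ⬝ᵥ x = f x := by
    intro x
    conv_rhs => rw [← Finset.univ_sum_single x]
    rw [map_sum]
    apply Finset.sum_congr rfl
    intro i _
    have h1 : (Pi.single i (x i) : Fin n → F) = x i • Pi.single i (1 : F) := by
      rw [← Pi.single_smul, smul_eq_mul, mul_one]
    rw [h1, map_smul, smul_eq_mul, mul_comm]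
  exact ⟨fun i => f (Pi.single i 1), fun w hw => by rw [hf]; exact hf2 hw,
    by rw [hf]; exact hf1⟩

/-- The stabiliser of a subspace. -/
def Stab (W : Submodule F (Fin n → F)) : Subgroup (Matrix.SpecialLinearGroup (Fin n) F) where
  carrier := {g | ∀ w, g • w ∈ W ↔ w ∈ W}
  one_mem' := fun w => by rw [one_smul]
  mul_mem' := fun {g h} hg hh w => by
    have hg' : ∀ w, g • w ∈ W ↔ w ∈ W := hg
    have hh' : ∀ w, h • w ∈ W ↔ w ∈ W := hh
    rw [mul_smul, hg', hh']
  inv_mem' := fun {g} hg w => by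
    have hg' : ∀ w, g • w ∈ W ↔ w ∈ W := hg
    rw [← hg', smul_inv_smul]

theorem mem_Stab_of_maps [Finite F] {W : Submodule F (Fin n → F)}
    {g : Matrix.SpecialLinearGroup (Fin n) F} (h : ∀ w ∈ W, g • w ∈ W) : g ∈ Stab W := by
  intro w
  refine ⟨fun hw => ?_, h w⟩
  have h1 : Function.Injective (fun x : W => (⟨g • (x : Fin n → F), h x x.2⟩ : W)) := by
    intro x y hxy
    apply Subtype.ext
    exact smul_left_cancel g (congrArg Subtype.val hxy)
  obtain ⟨y, hy⟩ := Finite.surjective_of_injective h1 ⟨g • w, hw⟩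
  have h2 : g • (y : Fin n → F) = g • w := congrArg Subtype.val hy
  rw [← smul_left_cancel g h2]
  exact y.2

theorem le_Stab_of_maps [Finite F] {W : Submodule F (Fin n → F)}
    {H : Subgroup (Matrix.SpecialLinearGroup (Fin n) F)} (h : ∀ g ∈ H, ∀ w ∈ W, g • w ∈ W) :
    H ≤ Stab W := fun g hg => mem_Stab_of_maps (h g hg)

/-- `W` is invariant under `H`. -/
def Invt (H : Subgroup (Matrix.SpecialLinearGroup (Fin n) F)) (W : Submodule F (Fin n → F)) :
    Prop := ∀ g ∈ H, ∀ w ∈ W, g • w ∈ W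

theorem invt_of_le {H : Subgroup (Matrix.SpecialLinearGroup (Fin n) F)}
    {W : Submodule F (Fin n → F)} (h : H ≤ Stab W) : Invt H W :=
  fun g hg w hw => (h hg w).2 hw

/-- The invariant subspaces of the stabiliser of `W`. -/
theorem eq_of_invt {U W : Submodule F (Fin n → F)} (h : Invt (Stab W) U) (hW : W ≠ ⊥) :
    U = ⊥ ∨ U = W ∨ U = ⊤ := by
  by_cases hU : U = ⊥
  · exact Or.inl hU
  right
  obtain ⟨u, hu, hu0⟩ := Submodule.exists_mem_ne_zero_of_ne_bot hU
  -- `W ≤ U`
  have h1 : W ≤ U := by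
    intro a ha
    by_cases hau : u ∈ Submodule.span F {a}
    · obtain ⟨c, hc⟩ := Submodule.mem_span_singleton.1 hau
      have hc0 : c ≠ 0 := by
        rintro rfl
        rw [zero_smul] at hc
        exact hu0 hc.symm
      have : a = c⁻¹ • u := by
        rw [← hc, smul_smul, inv_mul_cancel₀ hc0, one_smul]
      rw [this]
      exact U.smul_mem _ hu
    · obtain ⟨φ, hφ1, hφ2⟩ := exists_form hau
      have hφa : φ ⬝ᵥ a = 0 := hφ1 a (Submodule.mem_span_singleton_self a)
      have h2 : tr a φ hφa ∈ Stab W := by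
        intro w
        rw [tr_smul]
        exact W.add_mem_iff_left (W.smul_mem _ ha)
      have h3 := h _ h2 u hu
      rw [tr_smul, U.add_mem_iff_right hu] at h3
      exact (U.smul_mem_iff hφ2).1 h3
  by_cases h2 : U ≤ W
  · exact Or.inl (le_antisymm h2 h1)
  right
  obtain ⟨v, hv, hvW⟩ := SetLike.not_le_iff_exists.1 h2
  rw [eq_top_iff]
  intro b _
  by_cases hb : v ∈ W ⊔ Submodule.span F {b}
  · obtain ⟨w, hw, y, hy, hwy⟩ := Submodule.mem_sup.1 hb
    obtain ⟨c, hc⟩ := Submodule.mem_span_singleton.1 hy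
    have hc0 : c ≠ 0 := by
      rintro rfl
      rw [zero_smul] at hc
      apply hvW
      rw [← hwy, ← hc, add_zero]
      exact hw
    have h3 : c • b ∈ U := by
      rw [hc]
      have : y = v - w := by rw [← hwy]; abel
      rw [this]
      exact U.sub_mem hv (h1 hw)
    exact (U.smul_mem_iff hc0).1 h3
  · obtain ⟨φ, hφ1, hφ2⟩ := exists_form hb
    have hφb : φ ⬝ᵥ b = 0 :=
      hφ1 b (Submodule.mem_sup_right (Submodule.mem_span_singleton_self b))
    have h3 : tr b φ hφb ∈ Stab W := by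
      intro w
      rw [tr_smul]
      by_cases hw : w ∈ W
      · rw [hφ1 w (Submodule.mem_sup_left hw), zero_smul, add_zero]
      · refine ⟨fun h4 => ?_, fun h4 => absurd h4 hw⟩
        exfalso
        have h5 := hφ1 _ (Submodule.mem_sup_left h4)
        rw [dotProduct_add, dotProduct_smul, hφb, smul_zero, add_zero] at h5
        rw [h5, zero_smul, add_zero] at h4
        exact hw h4
    have h4 := h _ h3 v hv
    rw [tr_smul, U.add_mem_iff_right hv] at h4
    exact (U.smul_mem_iff hφ2).1 h4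

theorem Stab_ne_top {W : Submodule F (Fin n → F)} (h1 : W ≠ ⊥) (h2 : W ≠ ⊤) : Stab W ≠ ⊤ := by
  intro h
  obtain ⟨a, ha, ha0⟩ := Submodule.exists_mem_ne_zero_of_ne_bot h1
  obtain ⟨b, hb⟩ : ∃ b, b ∉ W := by
    by_contra hno
    push Not at hno
    exact h2 (eq_top_iff.2 fun b _ => hno b)
  have hab : a ∉ Submodule.span F {b} := by
    intro h3
    obtain ⟨c, hc⟩ := Submodule.mem_span_singleton.1 h3
    have hc0 : c ≠ 0 := by
      rintro rfl
      rw [zero_smul] at hc
      exact ha0 hc.symm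
    apply hb
    rw [← W.smul_mem_iff hc0, hc]
    exact ha
  obtain ⟨φ, hφ1, hφ2⟩ := exists_form hab
  have hφb : φ ⬝ᵥ b = 0 := hφ1 b (Submodule.mem_span_singleton_self b)
  have h3 : tr b φ hφb ∈ Stab W := h ▸ Subgroup.mem_top _
  have h4 := (h3 a).2 ha
  rw [tr_smul, W.add_mem_iff_right ha, W.smul_mem_iff hφ2] at h4
  exact hb h4

/-- Proper subspaces are determined by their stabilisers. -/
theorem Stab_inj {U W : Submodule F (Fin n → F)} (hU1 : U ≠ ⊥) (hU2 : U ≠ ⊤) (hW1 : W ≠ ⊥)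
    (h : Stab W ≤ Stab U) : U = W := by
  rcases eq_of_invt (invt_of_le h) hW1 with h1 | h1 | h1
  · exact absurd h1 hU1
  · exact h1
  · exact absurd h1 hU2

/-- The subspace of centres of transvections in `H`. -/
theorem exists_invt [Finite F] {H : Subgroup (Matrix.SpecialLinearGroup (Fin n) F)}
    (hH : H ≠ ⊤) {a₀ : Fin n → F} (ha₀ : a₀ ≠ 0)
    (h₀ : ∀ (φ : Fin n → F) (h : φ ⬝ᵥ a₀ = 0), tr a₀ φ h ∈ H) :
    ∃ W : Submodule F (Fin n → F), W ≠ ⊥ ∧ W ≠ ⊤ ∧ H ≤ Stab W := by
  have hconj : ∀ g ∈ H, ∀ a : Fin n → F,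
      (∀ (φ : Fin n → F) (h : φ ⬝ᵥ a = 0), tr a φ h ∈ H) →
      (∀ (φ : Fin n → F) (h : φ ⬝ᵥ (g • a) = 0), tr (g • a) φ h ∈ H) := by
    intro g hg a ha φ h
    have h1 : (φ ᵥ* (g : Matrix (Fin n) (Fin n) F)) ⬝ᵥ a = 0 := by
      rw [← dotProduct_mulVec]
      exact h
    have h2 : tr (g • a) φ h = g * tr a (φ ᵥ* (g : Matrix (Fin n) (Fin n) F)) h1 * g⁻¹ := by
      apply sl_ext
      intro x
      change (tr (g • a) φ h) • x = (g * tr a (φ ᵥ* (g : Matrix (Fin n) (Fin n) F)) h1 * g⁻¹) • x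
      rw [mul_smul, mul_smul, tr_smul, tr_smul, smul_add, smul_inv_smul,
        ← dotProduct_mulVec]
      have h3 : (g : Matrix (Fin n) (Fin n) F) *ᵥ (g⁻¹ • x) = x := smul_inv_smul g x
      rw [h3]
      congr 1
      exact ((mulVec_smul (g : Matrix (Fin n) (Fin n) F) (φ ⬝ᵥ x) a)).symm
    rw [h2]
    exact H.mul_mem (H.mul_mem hg (ha _ _)) (H.inv_mem hg)
  have hz : ∀ (φ : Fin n → F) (h : φ ⬝ᵥ (0 : Fin n → F) = 0), tr 0 φ h ∈ H := by
    intro φ h
    have : tr 0 φ h = 1 := by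
      apply sl_ext
      intro x
      change (tr 0 φ h) • x = (1 : Matrix.SpecialLinearGroup (Fin n) F) • x
      rw [tr_smul, smul_zero, add_zero, one_smul]
    rw [this]
    exact H.one_mem
  have hsmul : ∀ (c : F) (a : Fin n → F),
      (∀ (φ : Fin n → F) (h : φ ⬝ᵥ a = 0), tr a φ h ∈ H) →
      (∀ (φ : Fin n → F) (h : φ ⬝ᵥ (c • a) = 0), tr (c • a) φ h ∈ H) := by
    intro c a ha φ h
    have h1 : (c • φ) ⬝ᵥ a = 0 := by
      rw [smul_dotProduct, ← dotProduct_smul]
      exact h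
    have h2 : tr (c • a) φ h = tr a (c • φ) h1 := by
      apply sl_ext
      intro x
      change (tr (c • a) φ h) • x = (tr a (c • φ) h1) • x
      rw [tr_smul, tr_smul, smul_dotProduct, smul_smul, smul_eq_mul, mul_comm]
    rw [h2]
    exact ha _ _
  let W : Submodule F (Fin n → F) :=
    { carrier := {a | ∀ (φ : Fin n → F) (h : φ ⬝ᵥ a = 0), tr a φ h ∈ H}
      zero_mem' := hz
      smul_mem' := fun c a ha => hsmul c a ha
      add_mem' := by
        intro a b ha hb
        by_cases hab : b ∈ Submodule.span F {a}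
        · obtain ⟨c, rfl⟩ := Submodule.mem_span_singleton.1 hab
          have h1 := hsmul (1 + c) a ha
          rwa [add_smul, one_smul] at h1
        · obtain ⟨ψ, hψ1, hψ2⟩ := exists_form hab
          have hψa : ψ ⬝ᵥ a = 0 := hψ1 a (Submodule.mem_span_singleton_self a)
          have h1 : ((ψ ⬝ᵥ b)⁻¹ • ψ) ⬝ᵥ a = 0 := by rw [smul_dotProduct, hψa, smul_zero]
          have h2 : tr a ((ψ ⬝ᵥ b)⁻¹ • ψ) h1 ∈ H := ha _ _
          have h3 : (tr a ((ψ ⬝ᵥ b)⁻¹ • ψ) h1) • b = a + b := by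
            rw [tr_smul, smul_dotProduct, smul_eq_mul, inv_mul_cancel₀ hψ2, one_smul, add_comm]
          rw [← h3]
          exact hconj _ h2 b hb }
  have hmem : ∀ a, a ∈ W ↔ ∀ (φ : Fin n → F) (h : φ ⬝ᵥ a = 0), tr a φ h ∈ H := fun a => Iff.rfl
  have hn : 2 ≤ n := by
    by_contra hlt
    push Not at hlt
    apply hH
    have h01 : n = 0 ∨ n = 1 := by omega
    have hsub : Subsingleton (Matrix.SpecialLinearGroup (Fin n) F) := by
      rcases h01 with rfl | rfl
      · exact ⟨fun A B => Subtype.ext (by ext i; exact i.elim0)⟩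
      · refine ⟨fun A B => Subtype.ext ?_⟩
        ext i j
        have hA := A.2
        have hB := B.2
        rw [det_fin_one] at hA hB
        obtain rfl : i = 0 := Subsingleton.elim _ _
        obtain rfl : j = 0 := Subsingleton.elim _ _
        rw [hA, hB]
    rw [eq_top_iff]
    intro x _
    have : x = 1 := Subsingleton.elim _ _
    rw [this]
    exact H.one_mem
  refine ⟨W, ?_, ?_, ?_⟩
  · intro h
    apply ha₀
    have : a₀ ∈ W := h₀
    rw [h] at this
    exact (Submodule.mem_bot F).1 this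
  · intro h
    apply hH
    have hnt : Nontrivial (Fin n) := Fin.nontrivial_iff_two_le.2 hn
    rw [eq_top_iff]
    intro x _
    refine Cfsg.Agent.LieClassical.SLGen.transvection_induction (fun x => x ∈ H)
      (fun i j hij c => ?_) (fun A B hA hB => H.mul_mem hA hB) x
    rw [transvection_eq_tr hij]
    have h1 : (c • Pi.single i (1 : F) : Fin n → F) ∈ W := h ▸ Submodule.mem_top
    exact h1 _ _
  · apply le_Stab_of_maps
    intro g hg w hw
    exact hconj g hg w hw

/-- The order of the unitriangular group is the full `ℓ`-part: a subgroup of index prime to `ℓ`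
contains a conjugate of the root subgroups with a given centre. -/
theorem exists_center [Fintype F] (ℓ : ℕ) [hℓ : Fact ℓ.Prime] [CharP F ℓ] (hn : 2 ≤ n)
    {H : Subgroup (Matrix.SpecialLinearGroup (Fin n) F)} (hi : ¬ ℓ ∣ H.index) :
    ∃ a₀ : Fin n → F, a₀ ≠ 0 ∧ ∀ (φ : Fin n → F) (h : φ ⬝ᵥ a₀ = 0), tr a₀ φ h ∈ H := by
  classical
  have hn0 : 0 < n := by omega
  -- the subgroup of transvections with centre `e₀`
  let e : Fin n → F := Pi.single ⟨0, hn0⟩ 1
  let A : Subgroup (Matrix.SpecialLinearGroup (Fin n) F) :=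
    { carrier := {g | ∃ (φ : Fin n → F) (h : φ ⬝ᵥ e = 0), g = tr e φ h}
      one_mem' := ⟨0, zero_dotProduct _, by
        apply sl_ext
        intro x
        change (1 : Matrix.SpecialLinearGroup (Fin n) F) • x = (tr e 0 _) • x
        rw [tr_smul, zero_dotProduct, zero_smul, add_zero, one_smul]⟩
      mul_mem' := by
        rintro _ _ ⟨φ, h, rfl⟩ ⟨ψ, h', rfl⟩
        exact ⟨φ + ψ, _, tr_mul_same_center e φ ψ h h'⟩
      inv_mem' := by
        rintro _ ⟨φ, h, rfl⟩
        refine ⟨-φ, by rw [neg_dotProduct, h, neg_zero], ?_⟩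
        rw [inv_eq_iff_mul_eq_one, tr_mul_same_center]
        apply sl_ext
        intro x
        change (tr e (φ + -φ) _) • x = (1 : Matrix.SpecialLinearGroup (Fin n) F) • x
        rw [tr_smul, add_neg_cancel, zero_dotProduct, zero_smul, add_zero, one_smul] }
  have hmemA : ∀ (φ : Fin n → F) (h : φ ⬝ᵥ e = 0), tr e φ h ∈ A := fun φ h => ⟨φ, h, rfl⟩
  have hA : IsPGroup ℓ A := by
    rintro ⟨_, φ, h, rfl⟩
    refine ⟨1, ?_⟩
    apply Subtype.ext
    change (tr e φ h) ^ ℓ ^ 1 = 1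
    rw [pow_one]
    have hk : ∀ k : ℕ, ∃ h' : ((k : F) • φ) ⬝ᵥ e = 0, (tr e φ h) ^ k = tr e ((k : F) • φ) h' := by
      intro k
      induction k with
      | zero =>
        refine ⟨by simp, ?_⟩
        apply sl_ext
        intro x
        change ((tr e φ h) ^ 0) • x = (tr e (((0 : ℕ) : F) • φ) _) • x
        rw [tr_smul, pow_zero, one_smul, Nat.cast_zero, zero_smul, zero_dotProduct, zero_smul,
          add_zero]
      | succ k ih =>
        obtain ⟨h', hk'⟩ := ih
        refine ⟨by rw [smul_dotProduct, h, smul_zero], ?_⟩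
        rw [pow_succ, hk', tr_mul_same_center]
        apply sl_ext
        intro x
        change (tr e ((k : F) • φ + φ) _) • x = (tr e (((k + 1 : ℕ) : F) • φ) _) • x
        rw [tr_smul, tr_smul, Nat.cast_add, Nat.cast_one, add_smul, one_smul]
    obtain ⟨h', hℓ'⟩ := hk ℓ
    rw [hℓ']
    apply sl_ext
    intro x
    change (tr e ((ℓ : F) • φ) _) • x = (1 : Matrix.SpecialLinearGroup (Fin n) F) • x
    rw [tr_smul, CharP.cast_eq_zero, zero_smul, zero_dotProduct, zero_smul, add_zero, one_smul]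
  obtain ⟨P, hP⟩ := hA.exists_le_sylow
  obtain ⟨S, hS⟩ : ∃ S : Sylow ℓ (Matrix.SpecialLinearGroup (Fin n) F),
      (S : Subgroup _) ≤ H := by
    obtain ⟨T⟩ : Nonempty (Sylow ℓ H) := inferInstance
    have h1 : IsPGroup ℓ ((T : Subgroup H).map H.subtype) := T.isPGroup'.map _
    obtain ⟨S, hS⟩ := h1.exists_le_sylow
    refine ⟨S, ?_⟩
    have h2 : (T : Subgroup H).map H.subtype = (S : Subgroup _) := by
      apply Subgroup.eq_of_le_of_card_ge hS
      rw [Sylow.card_eq_multiplicity, Nat.card_congr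
        ((T : Subgroup H).equivMapOfInjective H.subtype H.subtype_injective).symm.toEquiv]
      change _ ≤ Nat.card T
      rw [Sylow.card_eq_multiplicity]
      apply Nat.pow_le_pow_right hℓ.out.pos
      have h3 : Nat.card (Matrix.SpecialLinearGroup (Fin n) F) = Nat.card H * H.index :=
        (Subgroup.card_mul_index H).symm
      rw [h3, Nat.factorization_mul Nat.card_pos.ne' Subgroup.index_ne_zero_of_finite,
        Finsupp.add_apply, Nat.factorization_eq_zero_of_not_dvd hi, add_zero]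
    rw [← h2]
    exact Subgroup.map_subtype_le _
  obtain ⟨g, hg⟩ := MulAction.exists_smul_eq (Matrix.SpecialLinearGroup (Fin n) F) P S
  refine ⟨g • e, ?_, fun φ h => ?_⟩
  · intro h
    have h1 : e = 0 := by
      have := congrArg (fun v => g⁻¹ • v) h
      simpa only [inv_smul_smul, smul_zero] using this
    have h2 := congrFun h1 ⟨0, hn0⟩
    rw [show e ⟨0, hn0⟩ = 1 from Pi.single_eq_same _ _] at h2
    exact one_ne_zero h2
  · have h1 : (φ ᵥ* (g : Matrix (Fin n) (Fin n) F)) ⬝ᵥ e = 0 := by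
      rw [← dotProduct_mulVec]
      exact h
    have h2 : tr (g • e) φ h = g * tr e (φ ᵥ* (g : Matrix (Fin n) (Fin n) F)) h1 * g⁻¹ := by
      apply sl_ext
      intro x
      change (tr (g • e) φ h) • x = (g * tr e (φ ᵥ* (g : Matrix (Fin n) (Fin n) F)) h1 * g⁻¹) • x
      rw [mul_smul, mul_smul, tr_smul, tr_smul, smul_add, smul_inv_smul,
        ← dotProduct_mulVec]
      have h3 : (g : Matrix (Fin n) (Fin n) F) *ᵥ (g⁻¹ • x) = x := smul_inv_smul g x
      rw [h3]
      congr 1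
      exact ((mulVec_smul (g : Matrix (Fin n) (Fin n) F) (φ ⬝ᵥ x) e)).symm
    rw [h2]
    apply hS
    rw [← hg]
    have h3 : tr e (φ ᵥ* (g : Matrix (Fin n) (Fin n) F)) h1 ∈ (P : Subgroup _) := hP (hmemA _ h1)
    rw [Sylow.coe_subgroup_smul, Subgroup.mem_pointwise_smul_iff_inv_smul_mem]
    have h4 : (MulAut.conj g)⁻¹ • (g * tr e (φ ᵥ* (g : Matrix (Fin n) (Fin n) F)) h1 * g⁻¹)
        = tr e (φ ᵥ* (g : Matrix (Fin n) (Fin n) F)) h1 := (MulAut.conj g).symm_apply_apply _
    rw [h4]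
    exact h3

/-- **Key lemma.** A proper subgroup of index prime to the characteristic is reducible. -/
theorem exists_stab [Fintype F] (ℓ : ℕ) [hℓ : Fact ℓ.Prime] [CharP F ℓ] (hn : 2 ≤ n)
    {H : Subgroup (Matrix.SpecialLinearGroup (Fin n) F)} (hi : ¬ ℓ ∣ H.index) (hH : H ≠ ⊤) :
    ∃ W : Submodule F (Fin n → F), W ≠ ⊥ ∧ W ≠ ⊤ ∧ H ≤ Stab W := by
  obtain ⟨a, ha, h⟩ := exists_center ℓ hn hi
  exact exists_invt hH ha h

/-- A subgroup of prime index, different from the characteristic, is the full stabiliser of a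
subspace. -/
theorem eq_stab [Fintype F] (ℓ : ℕ) [hℓ : Fact ℓ.Prime] [CharP F ℓ] (hn : 2 ≤ n)
    {H : Subgroup (Matrix.SpecialLinearGroup (Fin n) F)} {r : ℕ} (hr : r.Prime) (hrℓ : r ≠ ℓ)
    (hi : H.index = r) :
    ∃ W : Submodule F (Fin n → F), W ≠ ⊥ ∧ W ≠ ⊤ ∧ H = Stab W := by
  have h1 : ¬ ℓ ∣ H.index := by
    rw [hi, Nat.prime_dvd_prime_iff_eq hℓ.out hr]
    exact hrℓ.symm
  have h2 : H ≠ ⊤ := by
    intro h
    rw [h, Subgroup.index_top] at hi
    exact hr.one_lt.ne hi
  obtain ⟨W, hW1, hW2, hW3⟩ := exists_stab ℓ hn h1 h2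
  refine ⟨W, hW1, hW2, le_antisymm hW3 ?_⟩
  have h3 : H.relIndex (Stab W) * (Stab W).index = r := by
    rw [Subgroup.relIndex_mul_index hW3, hi]
  have h4 : (Stab W).index ≠ 1 := by
    rw [Ne, Subgroup.index_eq_one]
    exact Stab_ne_top hW1 hW2
  have h5 : (Stab W).index ∣ r := Dvd.intro_left _ h3
  rcases (Nat.dvd_prime hr).1 h5 with h6 | h6
  · exact absurd h6 h4
  · rw [h6] at h3
    have h7 : H.relIndex (Stab W) = 1 := by
      have := hr.pos
      nlinarith
    exact Subgroup.relIndex_eq_one.1 h7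

end Cfsg.Agent.H579.SLStab
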